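import Groth.Agent.CplFib6.PSDeriv
import Groth.Agent.SmoothingLib.GeomRegDiff

/-!
# Cofinite subrings with intersection the `p`th powers
-/

set_option autoImplicit false
set_option linter.style.haveILetI false

namespace Groth.Agent.DerPth

universe u

attribute [local instance 10000] Ring.toIntAlgebra

instance isDomain_mvPowerSeries (k : Type u) [CommRing k] [IsDomain k] (n : ℕ) : IsDomain (MvPowerSeries (Fin n) k) :=
  NoZeroDivisors.to_isDomain _

variable (p : ℕ) [hp : Fact p.Prime]

/-- The saturation of a subring of a domain. -/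
def sat {C : Type u} [CommRing C] [IsDomain C] (A : Subring C) : Subring C where
  carrier := {c | ∃ w ∈ A, w ≠ 0 ∧ c * w ∈ A}
  one_mem' := ⟨1, A.one_mem, one_ne_zero, by rw [one_mul]; exact A.one_mem⟩
  zero_mem' := ⟨1, A.one_mem, one_ne_zero, by rw [zero_mul]; exact A.zero_mem⟩
  mul_mem' := by
    rintro x y ⟨v, hv, hv0, hxv⟩ ⟨w, hw, hw0, hyw⟩
    exact ⟨v * w, A.mul_mem hv hw, mul_ne_zero hv0 hw0, by rw [mul_mul_mul_comm]; exact A.mul_mem hxv hyw⟩
  add_mem' := by
    rintro x y ⟨v, hv, hv0, hxv⟩ ⟨w, hw, hw0, hyw⟩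
    refine ⟨v * w, A.mul_mem hv hw, mul_ne_zero hv0 hw0, ?_⟩
    rw [show (x + y) * (v * w) = x * v * w + y * w * v by ring]
    exact A.add_mem (A.mul_mem hxv hw) (A.mul_mem hyw hv)
  neg_mem' := by
    rintro x ⟨v, hv, hv0, hxv⟩
    exact ⟨v, hv, hv0, by rw [neg_mul]; exact A.neg_mem hxv⟩

theorem le_sat {C : Type u} [CommRing C] [IsDomain C] (A : Subring C) : A ≤ sat A := fun x hx =>
  ⟨1, A.one_mem, one_ne_zero, by rwa [mul_one]⟩

theorem sat_saturated {C : Type u} [CommRing C] [IsDomain C] (A : Subring C) {c w : C} (hw : w ∈ sat A)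
    (hw0 : w ≠ 0) (h : c * w ∈ sat A) : c ∈ sat A := by
  obtain ⟨v, hv, hv0, hwv⟩ := hw
  obtain ⟨z, hz, hz0, hz'⟩ := h
  refine ⟨w * v * z, A.mul_mem hwv hz, mul_ne_zero (mul_ne_zero hw0 hv0) hz0, ?_⟩
  rw [show c * (w * v * z) = c * w * z * v by ring]
  exact A.mul_mem hz' hv

/-- A directed family of subrings containing the `p`th powers, over which the ring is finitely generated, whose
saturations meet in the `p`th powers. -/
def Cofin (C : Type u) [CommRing C] [IsDomain C] : Prop :=
  ∃ 𝔄 : Set (Subring C), 𝔄.Nonempty ∧ (∀ A ∈ 𝔄, ∀ A' ∈ 𝔄, ∃ A'' ∈ 𝔄, A'' ≤ A ∧ A'' ≤ A') ∧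
    (∀ A ∈ 𝔄, (∀ a, a ^ p ∈ A) ∧ ∃ G : Finset C, Subring.closure ((A : Set C) ∪ G) = ⊤) ∧
    ∀ c : C, (∀ a, a ^ p ≠ c) → ∃ A ∈ 𝔄, c ∉ sat A

section PS

variable {σ : Type u} {C : Type u} [CommRing C]

/-- Power series in the `p`th powers of the variables with coefficients in a subring. -/
def psSub (σ : Type*) (A : Subring C) : Subring (MvPowerSeries σ C) where
  carrier := {g | ∀ m, MvPowerSeries.coeff m g ∈ A ∧ (MvPowerSeries.coeff m g ≠ 0 → ∀ i, p ∣ m i)}
  one_mem' := fun m => by
    classical
    rw [MvPowerSeries.coeff_one]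
    split_ifs with h
    · subst h; exact ⟨A.one_mem, fun _ i => by simp⟩
    · exact ⟨A.zero_mem, fun h' => absurd rfl h'⟩
  zero_mem' := fun m => by simp [A.zero_mem]
  add_mem' := by
    intro f g hf hg m
    rw [map_add]
    refine ⟨A.add_mem (hf m).1 (hg m).1, fun h => ?_⟩
    by_cases h1 : MvPowerSeries.coeff m f = 0
    · rw [h1, zero_add] at h; exact (hg m).2 h
    · exact (hf m).2 h1
  neg_mem' := by
    intro f hf m
    rw [map_neg]
    exact ⟨A.neg_mem (hf m).1, fun h => (hf m).2 (neg_ne_zero.1 h)⟩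
  mul_mem' := by
    classical
    intro f g hf hg m
    rw [MvPowerSeries.coeff_mul]
    refine ⟨A.sum_mem fun x _ => A.mul_mem (hf x.1).1 (hg x.2).1, fun h i => ?_⟩
    obtain ⟨x, hx, hne⟩ := Finset.exists_ne_zero_of_sum_ne_zero h
    rw [← show x.1 + x.2 = m by simpa using hx, Finsupp.add_apply]
    exact dvd_add ((hf x.1).2 (left_ne_zero_of_mul hne) i) ((hg x.2).2 (right_ne_zero_of_mul hne) i)

theorem psSub_mono {A A' : Subring C} (h : A ≤ A') (σ : Type*) : psSub p σ A ≤ psSub p σ A' :=
  fun _ hg m => ⟨h (hg m).1, (hg m).2⟩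

theorem pow_mem_psSub [CharP C p] {τ : Type*} [Finite τ] {A : Subring C} (hA : ∀ a, a ^ p ∈ A) (g : MvPowerSeries τ C) :
    g ^ p ∈ psSub p τ A := by
  haveI : ExpChar C p := .prime hp.out
  intro m
  rw [← MvPowerSeries.map_frobenius_expand p hp.out.ne_zero, MvPowerSeries.coeff_map]
  by_cases hm : ∀ i, p ∣ m i
  · exact ⟨hA _, fun _ => hm⟩
  · obtain ⟨i, hi⟩ := not_forall.1 hm
    rw [MvPowerSeries.coeff_expand_of_not_dvd p hp.out.ne_zero g hi, map_zero]
    exact ⟨A.zero_mem, fun h => absurd rfl h⟩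

/-- Lowest terms show that `psSub` of a saturated subring is saturated. -/
theorem psSub_saturated [IsDomain C] {n : ℕ} {A : Subring C}
    (hA : ∀ {c w : C}, w ∈ A → w ≠ 0 → c * w ∈ A → c ∈ A) {g w : MvPowerSeries (Fin n) C}
    (hw : w ∈ psSub p (Fin n) A) (hw0 : w ≠ 0) (h : g * w ∈ psSub p (Fin n) A) : g ∈ psSub p (Fin n) A := by
  classical
  let g'' : MvPowerSeries (Fin n) C := fun m =>
    if MvPowerSeries.coeff m g ∈ A ∧ ∀ i, p ∣ m i then MvPowerSeries.coeff m g else 0
  have hc'' : ∀ m, MvPowerSeries.coeff m g'' =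
      if MvPowerSeries.coeff m g ∈ A ∧ ∀ i, p ∣ m i then MvPowerSeries.coeff m g else 0 := fun m => rfl
  have hg'' : g'' ∈ psSub p (Fin n) A := fun m => by
    rw [hc'']
    split_ifs with hm
    · exact ⟨hm.1, fun _ => hm.2⟩
    · exact ⟨A.zero_mem, fun h => absurd rfl h⟩
  by_contra hg
  have hne : g - g'' ≠ 0 := fun h0 => hg (by rwa [sub_eq_zero.1 h0])
  have h' : (g - g'') * w ∈ psSub p (Fin n) A := by
    rw [sub_mul]; exact Subring.sub_mem _ h (Subring.mul_mem _ hg'' hw)
  obtain ⟨a, ha⟩ := MvPowerSeries.exists_finsupp_eq_lexOrder_of_ne_zero hne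
  obtain ⟨b, hb⟩ := MvPowerSeries.exists_finsupp_eq_lexOrder_of_ne_zero hw0
  have hca := MvPowerSeries.coeff_ne_zero_of_lexOrder ha.symm
  have hcb := MvPowerSeries.coeff_ne_zero_of_lexOrder hb.symm
  have hab := h' (a + b)
  rw [MvPowerSeries.coeff_mul_of_add_lexOrder ha hb] at hab
  have hdiv : ∀ i, p ∣ a i := fun i => by
    have := hab.2 (mul_ne_zero hca hcb) i
    rw [Finsupp.add_apply] at this
    exact (Nat.dvd_add_left ((hw b).2 hcb i)).1 this
  have hcA := hA (hw b).1 hcb hab.1
  rw [map_sub, hc''] at hca hcA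
  by_cases hm : MvPowerSeries.coeff a g ∈ A ∧ ∀ i, p ∣ a i
  · rw [if_pos hm, sub_self] at hca; exact hca rfl
  · rw [if_neg hm, sub_zero] at hcA; exact hm ⟨hcA, hdiv⟩

end PS

/-- Derivations with a prescribed value on a basis detect `p`th powers, one finite subset at a time. -/
theorem exists_finset_derivations (k : Type u) [Field k] [CharP k p] :
    ∃ (T : Type u) (δ : T → Derivation ℤ k k), (∀ a b, ∀ x, δ a (δ b x) = δ b (δ a x)) ∧
      (∀ a x, (⇑(δ a))^[p] x = 0) ∧ ∀ c : k, (∀ a, a ^ p ≠ c) → ∃ a, δ a c ≠ 0 := by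
  classical
  obtain ⟨T, hT⟩ := Groth.Agent.SmoothingLib.GeomDiff.exists_pbasis p k
  choose δ hδ huniq using fun t : T => hT k (fun s => if s = t then (1 : k) else 0)
  have hzero : ∀ D : Derivation ℤ k k, (∀ t : T, D t = 0) → ∀ x, D x = 0 := fun D hD x => by
    obtain ⟨D₀, -, h0⟩ := hT k (fun _ => (0 : k))
    rw [h0 D hD, ← h0 0 fun _ => rfl]
    rfl
  have hδc : ∀ a b : T, ∀ x : T, δ a (δ b x) = 0 := fun a b x => by
    rw [hδ b x]; split_ifs <;> simp
  refine ⟨T, δ, fun a b x => ?_, fun a x => ?_, fun c hc => ?_⟩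
  · have := hzero ⁅δ a, δ b⁆ (fun t => by rw [Derivation.commutator_apply, hδc, hδc, sub_zero]) x
    rwa [Derivation.commutator_apply, sub_eq_zero] at this
  · obtain ⟨D', hD'⟩ := CplFib6.exists_derivation_iterate p (δ a)
    rw [← hD']
    refine hzero D' (fun t => ?_) x
    rw [hD', show p = p - 2 + 1 + 1 by have := hp.out.two_le; omega, Function.iterate_succ_apply,
      Function.iterate_succ_apply, hδc, iterate_map_zero]
  · obtain ⟨D, hD⟩ := CplFib6.exists_derivation_field k p c hc
    by_contra! hall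
    let V : Submodule k (Ω[k⁄ℤ]) := Submodule.span k (Set.range fun t : T => KaehlerDifferential.D ℤ k t)
    have hV : V = ⊤ := by
      rw [eq_top_iff, ← KaehlerDifferential.span_range_derivation, Submodule.span_le]
      rintro _ ⟨x, rfl⟩
      obtain ⟨D₀, -, h0⟩ := hT (Ω[k⁄ℤ] ⧸ V) (fun _ => 0)
      have h1 : V.mkQ.compDer (KaehlerDifferential.D ℤ k) = D₀ :=
        h0 _ fun t => (Submodule.Quotient.mk_eq_zero V).2 (Submodule.subset_span ⟨t, rfl⟩)
      have h2 : (0 : Derivation ℤ k (Ω[k⁄ℤ] ⧸ V)) = D₀ := h0 _ fun t => rfl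
      exact (Submodule.Quotient.mk_eq_zero V).1 (DFunLike.congr_fun (h1.trans h2.symm) x)
    obtain ⟨l, hl⟩ := Finsupp.mem_span_range_iff_exists_finsupp.1
      (hV ▸ Submodule.mem_top : KaehlerDifferential.D ℤ k c ∈ V)
    refine hD ?_
    have hl0 : ∀ s, l s = 0 := fun s => by
      have := congrArg (δ s).liftKaehlerDifferential hl
      rw [Derivation.liftKaehlerDifferential_comp_D, hall s, map_finsuppSum, Finsupp.sum,
        Finset.sum_eq_single s] at this
      · rwa [map_smul, Derivation.liftKaehlerDifferential_comp_D, hδ, if_pos rfl, smul_eq_mul, mul_one] at this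
      · intro b _ hb
        rw [map_smul, Derivation.liftKaehlerDifferential_comp_D, hδ, if_neg hb, smul_zero]
      · intro hs
        rw [Finsupp.notMem_support_iff.1 hs, zero_smul, map_zero]
    have h3 := congrArg D.liftKaehlerDifferential hl
    rw [Derivation.liftKaehlerDifferential_comp_D, Finsupp.sum, Finset.sum_eq_zero
      (fun s _ => by rw [hl0 s, zero_smul]), map_zero] at h3
    exact h3.symm

section Kernel

variable {k : Type u} [Field k] {T : Type u} (δ : T → Derivation ℤ k k)

/-- The common constants of finitely many derivations. -/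
def constField (α : Finset T) : Subfield k where
  carrier := {x | ∀ t ∈ α, δ t x = 0}
  one_mem' := fun t _ => Derivation.map_one_eq_zero _
  zero_mem' := fun t _ => map_zero _
  add_mem' := fun hx hy t ht => by rw [map_add, hx t ht, hy t ht, add_zero]
  neg_mem' := fun hx t ht => by rw [map_neg, hx t ht, neg_zero]
  mul_mem' := fun hx hy t ht => by rw [Derivation.leibniz, hx t ht, hy t ht, smul_zero, smul_zero, add_zero]
  inv_mem' := fun x hx t ht => by rw [Derivation.leibniz_inv, hx t ht, smul_zero]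

include hp in
theorem finite_constField (hcomm : ∀ a b, ∀ x, δ a (δ b x) = δ b (δ a x)) (hnil : ∀ a x, (⇑(δ a))^[p] x = 0)
    (α : Finset T) : Module.Finite (constField δ α) k := by
  classical
  set F := constField δ α
  let V : Finset T → Submodule F k := fun γ =>
    { carrier := {x | ∀ t ∈ γ, t ∈ α → δ t x = 0}
      zero_mem' := fun t _ _ => map_zero _
      add_mem' := fun hx hy t ht ht' => by rw [map_add, hx t ht ht', hy t ht ht', add_zero]
      smul_mem' := fun a x hx t ht ht' => by
        show δ t ((a : k) * x) = 0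
        rw [Derivation.leibniz, a.2 t ht', hx t ht ht', smul_zero, smul_zero, add_zero] }
  have hmain : ∀ β : Finset T, Module.Finite F (V (α \ β)) := by
    intro β
    induction β using Finset.induction_on with
    | empty =>
      refine Module.Finite.of_fg ⟨{1}, le_antisymm (Submodule.span_le.2 ?_) fun x hx => ?_⟩
      · intro y hy t _ _
        rw [Finset.coe_singleton, Set.mem_singleton_iff] at hy
        rw [hy, Derivation.map_one_eq_zero]
      · rw [Finset.coe_singleton, Submodule.mem_span_singleton]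
        exact ⟨⟨x, fun t ht => hx t (by simpa using ht) ht⟩, by show x * 1 = x; rw [mul_one]⟩
    | insert s β hs ih =>
      by_cases hsα : s ∈ α
      swap
      · rwa [show α \ insert s β = α \ β by ext x; simp; intro hx _ rfl; exact hsα hx]
      set W := V (α \ insert s β)
      let f : W →ₗ[F] W :=
        { toFun := fun x => ⟨δ s x, fun t ht ht' => by rw [hcomm, x.2 t ht ht', map_zero]⟩
          map_add' := fun x y => Subtype.ext (map_add (δ s) (x : k) (y : k))
          map_smul' := fun a x => Subtype.ext (by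
            show δ s ((a : k) * x) = (a : k) * δ s x
            rw [Derivation.leibniz, a.2 s hsα, smul_zero, add_zero, smul_eq_mul]) }
      have hf : ∀ (j : ℕ) (x : W), ((f ^ j) x : k) = (⇑(δ s))^[j] x := by
        intro j
        induction j with
        | zero => exact fun x => rfl
        | succ j ihj =>
          intro x
          rw [pow_succ', Function.iterate_succ_apply', ← ihj]
          rfl
      haveI : Module.Finite F (LinearMap.ker f) := by
        haveI := ih
        let ψ : LinearMap.ker f →ₗ[F] V (α \ β) :=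
          { toFun := fun x => ⟨(x.1 : k), fun t ht ht' => by
              by_cases hts : t = s
              · rw [hts]; exact congrArg Subtype.val (x.2 : f x.1 = 0)
              · exact x.1.2 t (by simp at ht ⊢; exact ⟨ht.1, hts, ht.2⟩) ht'⟩
            map_add' := fun x y => rfl
            map_smul' := fun a x => rfl }
        exact Module.Finite.of_injective ψ fun x y h => Subtype.ext (Subtype.ext (congrArg Subtype.val h :))
      have hj : ∀ j : ℕ, Module.Finite F (LinearMap.ker (f ^ j)) := by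
        intro j
        induction j with
        | zero =>
          rw [show LinearMap.ker (f ^ 0) = ⊥ from LinearMap.ker_id]
          infer_instance
        | succ j ihj =>
          haveI := ihj
          haveI : Module.Finite F (Submodule.map f (LinearMap.ker (f ^ (j + 1)))) :=
            Submodule.finiteDimensional_of_le (S₂ := LinearMap.ker (f ^ j)) (by
              rintro _ ⟨x, hx, rfl⟩
              rw [SetLike.mem_coe, LinearMap.mem_ker] at hx
              rw [LinearMap.mem_ker, ← Module.End.mul_apply, ← pow_succ]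
              exact hx)
          haveI : Module.Finite F (LinearMap.ker (f ^ (j + 1)) ⊓ LinearMap.ker f : Submodule F W) :=
            Submodule.finiteDimensional_of_le (S₂ := LinearMap.ker f) inf_le_right
          exact Module.Finite.iff_fg.2 (Submodule.fg_of_fg_map_of_fg_inf_ker f
            (Module.Finite.iff_fg.1 inferInstance) (Module.Finite.iff_fg.1 inferInstance))
      haveI := hj p
      exact Module.Finite.equiv (LinearEquiv.ofTop _ (eq_top_iff.2 fun x _ =>
        LinearMap.mem_ker.2 (Subtype.ext (by rw [hf, hnil]; rfl))))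
  have h2 := hmain α
  haveI : Module.Finite F (V (α \ α)) := h2
  exact Module.Finite.equiv (LinearEquiv.ofTop (V (α \ α)) (eq_top_iff.2 fun x _ t ht => absurd ht (by simp)))

end Kernel

/-- Power series over a field. -/
theorem cofin_mvPowerSeries (k : Type u) [Field k] [CharP k p] (n : ℕ) : Cofin p (MvPowerSeries (Fin n) k) := by
  classical
  obtain ⟨T, δ, hcomm, hnil, hdet⟩ := exists_finset_derivations p k
  let A : Finset T → Subring (MvPowerSeries (Fin n) k) := fun α => psSub p (Fin n) (constField δ α).toSubring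
  have hpow : ∀ α a, a ^ p ∈ (constField δ α).toSubring := fun α a t _ => CplFib6.derivation_pow_char p (δ t) a
  refine ⟨Set.range A, Set.range_nonempty A, ?_, ?_, fun g hg => ?_⟩
  · rintro _ ⟨α, rfl⟩ _ ⟨β, rfl⟩
    exact ⟨A (α ∪ β), ⟨_, rfl⟩, psSub_mono p (A := (constField δ (α ∪ β)).toSubring)
        (A' := (constField δ α).toSubring) (fun x hx t ht => hx t (Finset.mem_union_left _ ht)) _,
      psSub_mono p (A := (constField δ (α ∪ β)).toSubring)
        (A' := (constField δ β).toSubring) (fun x hx t ht => hx t (Finset.mem_union_right _ ht)) _⟩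
  · rintro _ ⟨α, rfl⟩
    refine ⟨fun a => pow_mem_psSub p (hpow α) a, ?_⟩
    haveI := finite_constField p δ hcomm hnil α
    obtain ⟨r, c, hc⟩ := Module.Finite.exists_fin (R := constField δ α) (M := k)
    have hrep : ∀ x : k, ∃ a : Fin r → constField δ α, ∑ j, (a j : k) * c j = x := fun x => by
      obtain ⟨a, ha⟩ := (Submodule.mem_span_range_iff_exists_fun _).1 (hc ▸ Submodule.mem_top (x := x))
      exact ⟨a, ha⟩
    choose rep hrep using hrep
    let μ : (Fin n → Fin p) → (Fin n →₀ ℕ) := fun e => Finsupp.equivFunOnFinite.symm fun i => (e i : ℕ)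
    let P : (Fin n → Fin p) × Fin r → MvPowerSeries (Fin n) k := fun q => MvPowerSeries.monomial (μ q.1) (c q.2)
    refine ⟨Finset.univ.image P, eq_top_iff.2 fun g _ => ?_⟩
    let h : (Fin n → Fin p) × Fin r → MvPowerSeries (Fin n) k := fun q m =>
      if ∀ i, p ∣ m i then (rep (MvPowerSeries.coeff (m + μ q.1) g) q.2 : k) else 0
    have hh : ∀ q m, MvPowerSeries.coeff m (h q) =
        if ∀ i, p ∣ m i then (rep (MvPowerSeries.coeff (m + μ q.1) g) q.2 : k) else 0 := fun q m => rfl
    have hmem : ∀ q, h q ∈ A α := fun q m => by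
      rw [hh]
      split_ifs with hm
      · exact ⟨(rep _ q.2).2, fun _ => hm⟩
      · exact ⟨Subring.zero_mem _, fun h => absurd rfl h⟩
    have hg : g = ∑ q, P q * h q := by
      ext m
      let e₀ : Fin n → Fin p := fun i => ⟨m i % p, Nat.mod_lt _ hp.out.pos⟩
      have he₀ : μ e₀ ≤ m := fun i => by simpa [μ, e₀] using Nat.mod_le (m i) p
      have hdiv : ∀ i, p ∣ (m - μ e₀) i := fun i => by
        simpa [μ, e₀, Finsupp.tsub_apply] using Nat.dvd_sub_mod (m i)
      rw [map_sum, Fintype.sum_prod_type, Finset.sum_eq_single e₀]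
      · conv_lhs => rw [← hrep (MvPowerSeries.coeff m g)]
        refine Finset.sum_congr rfl fun j _ => ?_
        rw [MvPowerSeries.coeff_monomial_mul, if_pos he₀, hh, if_pos hdiv, tsub_add_cancel_of_le he₀, mul_comm]
      · intro e _ he
        refine Finset.sum_eq_zero fun j _ => ?_
        rw [MvPowerSeries.coeff_monomial_mul]
        split_ifs with hle
        · rw [hh, if_neg, mul_zero]
          intro hd
          refine he (funext fun i => Fin.ext ?_)
          obtain ⟨q, hq⟩ := hd i
          have h1 : (e i : ℕ) ≤ m i := hle i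
          have h2 : m i - (e i : ℕ) = p * q := hq
          show (e i : ℕ) = m i % p
          rw [show m i = (e i : ℕ) + p * q by omega, Nat.add_mul_mod_self_left, Nat.mod_eq_of_lt (e i).2]
        · rfl
      · exact fun h => absurd (Finset.mem_univ _) h
    rw [hg]
    exact Subring.sum_mem _ fun q _ => Subring.mul_mem _
      (Subring.subset_closure (Or.inr (by simp))) (Subring.subset_closure (Or.inl (hmem q)))
  · haveI : ExpChar k p := .prime hp.out
    have hbad : ∃ m, MvPowerSeries.coeff m g ≠ 0 ∧ ((¬ ∀ i, p ∣ m i) ∨ ∀ a, a ^ p ≠ MvPowerSeries.coeff m g) := by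
      by_contra! hall
      have h1 : ∀ m, ∃ a : k, a ^ p = MvPowerSeries.coeff m g := fun m => by
        by_cases h0 : MvPowerSeries.coeff m g = 0
        · exact ⟨0, by rw [h0, zero_pow hp.out.ne_zero]⟩
        · exact (hall m h0).2
      choose a ha using h1
      refine hg (fun m => a (p • m)) ?_
      rw [← MvPowerSeries.map_frobenius_expand p hp.out.ne_zero]
      ext m
      rw [MvPowerSeries.coeff_map]
      by_cases hm : ∀ i, p ∣ m i
      · obtain ⟨m', rfl⟩ : ∃ m', m = p • m' :=
          ⟨m.mapRange (· / p) (by simp), by ext i; simp [Nat.mul_div_cancel' (hm i)]⟩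
        rw [MvPowerSeries.coeff_expand_smul, frobenius_def]
        exact ha _
      · obtain ⟨i, hi⟩ := not_forall.1 hm
        rw [MvPowerSeries.coeff_expand_of_not_dvd p hp.out.ne_zero _ hi, map_zero]
        by_contra hne
        exact hm (hall m (Ne.symm hne)).1
    obtain ⟨m, hm0, hm⟩ := hbad
    obtain ⟨α, hα⟩ : ∃ α : Finset T, (∀ i, p ∣ m i) → MvPowerSeries.coeff m g ∉ (constField δ α).toSubring := by
      by_cases hd : ∀ i, p ∣ m i
      · obtain ⟨t, ht⟩ := hdet _ (hm.resolve_left (not_not.2 hd))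
        exact ⟨{t}, fun _ h => ht (h t (Finset.mem_singleton_self t))⟩
      · exact ⟨∅, fun h => absurd h hd⟩
    refine ⟨A α, ⟨α, rfl⟩, fun ⟨w, hw, hw0, hgw⟩ => ?_⟩
    have hsat : g ∈ A α := psSub_saturated p (fun {c w} hw hw0 h => by
      have := (constField δ α).mul_mem h ((constField δ α).inv_mem hw)
      rwa [mul_inv_cancel_right₀ hw0] at this) hw hw0 hgw
    exact hα ((hsat m).2 hm0) (hsat m).1

/-- Polynomials. -/
theorem cofin_mvPolynomial {C : Type u} [CommRing C] [IsDomain C] [CharP C p] (h : Cofin p C) (d : ℕ) :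
    Cofin p (MvPolynomial (Fin d) C) := by
  classical
  obtain ⟨𝔄, hne, hdir, hA, hdet⟩ := h
  let ι : MvPolynomial (Fin d) C →+* MvPowerSeries (Fin d) C := MvPolynomial.coeToMvPowerSeries.ringHom
  have hι : ∀ (g : MvPolynomial (Fin d) C) m, MvPowerSeries.coeff m (ι g) = MvPolynomial.coeff m g := fun g m => rfl
  have hιinj : Function.Injective ι := fun x y hxy => MvPolynomial.ext _ _ fun m => by
    rw [← hι, ← hι, hxy]
  let A' : Subring C → Subring (MvPolynomial (Fin d) C) := fun A => (psSub p (Fin d) A).comap ι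
  refine ⟨A' '' 𝔄, hne.image _, ?_, ?_, fun g hg => ?_⟩
  · rintro _ ⟨A, hAm, rfl⟩ _ ⟨B, hBm, rfl⟩
    obtain ⟨D, hD, h1, h2⟩ := hdir A hAm B hBm
    exact ⟨A' D, ⟨D, hD, rfl⟩, fun x hx => psSub_mono p h1 _ hx, fun x hx => psSub_mono p h2 _ hx⟩
  · rintro _ ⟨A, hAm, rfl⟩
    obtain ⟨hpw, G, hG⟩ := hA A hAm
    refine ⟨fun a => by
      show ι (a ^ p) ∈ psSub p (Fin d) A
      rw [map_pow]; exact pow_mem_psSub p hpw _,
      (G.image MvPolynomial.C ∪ Finset.univ.image MvPolynomial.X : Finset (MvPolynomial (Fin d) C)),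
      eq_top_iff.2 fun g _ => ?_⟩
    have hC : ∀ a, MvPolynomial.C a ∈ Subring.closure ((A' A : Set (MvPolynomial (Fin d) C)) ∪
        ((G.image MvPolynomial.C ∪ Finset.univ.image MvPolynomial.X : Finset (MvPolynomial (Fin d) C)) : Set _)) := by
      intro a
      have : a ∈ Subring.closure ((A : Set C) ∪ G) := hG ▸ Subring.mem_top a
      refine (Subring.closure_le (t := (Subring.closure _).comap MvPolynomial.C)).2 ?_ this
      rintro x (hx | hx)
      · refine Subring.subset_closure (Or.inl fun m => ?_)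
        rw [hι, MvPolynomial.coeff_C]
        split_ifs with hm
        · subst hm; exact ⟨hx, fun _ i => by simp⟩
        · exact ⟨A.zero_mem, fun h => absurd rfl h⟩
      · exact Subring.subset_closure (Or.inr (by simp; exact Or.inl hx))
    induction g using MvPolynomial.induction_on with
    | C a => exact hC a
    | add f g hf hg => exact Subring.add_mem _ (hf trivial) (hg trivial)
    | mul_X f i hf => exact Subring.mul_mem _ (hf trivial) (Subring.subset_closure (Or.inr (by simp)))
  · have hbad : ∃ m, MvPolynomial.coeff m g ≠ 0 ∧ ((¬ ∀ i, p ∣ m i) ∨ ∀ a, a ^ p ≠ MvPolynomial.coeff m g) := by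
      by_contra! hall
      have h1 : ∀ m ∈ g.support, ∃ b : MvPolynomial (Fin d) C, b ^ p = MvPolynomial.monomial m (g.coeff m) := by
        intro m hm
        obtain ⟨hd', a, ha⟩ := hall m (MvPolynomial.mem_support_iff.1 hm)
        refine ⟨MvPolynomial.monomial (m.mapRange (· / p) (by simp)) a, ?_⟩
        have hdm : p • m.mapRange (· / p) (by simp) = m := Finsupp.ext fun i => by
          simp [Nat.mul_div_cancel' (hd' i)]
        rw [MvPolynomial.monomial_pow, ha, hdm]
      choose! b hb using h1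
      refine hg (∑ m ∈ g.support, b m) ?_
      rw [sum_pow_char, Finset.sum_congr rfl hb]
      exact g.support_sum_monomial_coeff
    obtain ⟨m, hm0, hm⟩ := hbad
    obtain ⟨A, hAm, hα⟩ : ∃ A ∈ 𝔄, (∀ i, p ∣ m i) → MvPolynomial.coeff m g ∉ sat A := by
      by_cases hd' : ∀ i, p ∣ m i
      · obtain ⟨A, hAm, hA'⟩ := hdet _ (hm.resolve_left (not_not.2 hd'))
        exact ⟨A, hAm, fun _ => hA'⟩
      · obtain ⟨A, hAm⟩ := hne
        exact ⟨A, hAm, fun h => absurd h hd'⟩
    refine ⟨A' A, ⟨A, hAm, rfl⟩, fun ⟨w, hw, hw0, hgw⟩ => ?_⟩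
    have hle : psSub p (Fin d) A ≤ psSub p (Fin d) (sat A) := psSub_mono p (le_sat A) _
    have hsat : ι g ∈ psSub p (Fin d) (sat A) := psSub_saturated p (sat_saturated A) (hle hw)
      ((map_ne_zero_iff ι hιinj).2 hw0) (by rw [← map_mul]; exact hle hgw)
    exact hα ((hsat m).2 hm0) (hsat m).1

end Groth.Agent.DerPth
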