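import Groth.Agent.DerPth.Cofin
import Groth.Agent.CohenLib.Structure
import Groth.Agent.CplFib6.Quot

/-!
# Derivations detecting `p`th powers on algebras over complete local rings
-/

set_option autoImplicit false
set_option linter.style.haveILetI false

namespace Groth.Agent.DerPth

universe u

attribute [local instance 10000] Ring.toIntAlgebra

open IsLocalRing

variable (p : ℕ) [hp : Fact p.Prime]

/-- Independence over an intersection of subfields is seen by one of them. -/
theorem exists_linearIndependent {K W : Type u} [Field K] [AddCommGroup W] [Module K W] (𝔉 : Set (Subfield K))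
    (hne : 𝔉.Nonempty) (hdir : ∀ F ∈ 𝔉, ∀ F' ∈ 𝔉, ∃ F'' ∈ 𝔉, F'' ≤ F ∧ F'' ≤ F') (K₀ : Subfield K)
    (hint : ∀ x, (∀ F ∈ 𝔉, x ∈ F) → x ∈ K₀) :
    ∀ {n : ℕ} (v : Fin n → W), LinearIndependent K₀ v → ∃ F ∈ 𝔉, LinearIndependent F v := by
  classical
  intro n
  induction n with
  | zero =>
    obtain ⟨F, hF⟩ := hne
    exact fun v _ => ⟨F, hF, linearIndependent_empty_type⟩
  | succ n ih =>
    intro v hv
    rw [← Fin.snoc_init_self v, linearIndependent_finSnoc] at hv
    obtain ⟨F₁, hF₁, h₁⟩ := ih (Fin.init v) hv.1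
    have hmono : ∀ F : Subfield K, F ≤ F₁ → LinearIndependent F (Fin.init v) := by
      intro F hF
      rw [Fintype.linearIndependent_iff] at h₁ ⊢
      intro g hg i
      exact Subtype.ext (congrArg Subtype.val (h₁ (fun j => ⟨(g j).1, hF (g j).2⟩) hg i) :)
    by_contra! hall
    have hrep : ∀ F ∈ 𝔉, F ≤ F₁ → ∃ a : Fin n → F, ∑ i, (a i : K) • Fin.init v i = v (Fin.last n) := by
      intro F hF hle
      have := hall F hF
      rw [← Fin.snoc_init_self v, linearIndependent_finSnoc, not_and_not_right] at this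
      obtain ⟨a, ha⟩ := (Submodule.mem_span_range_iff_exists_fun _).1 (this (hmono F hle))
      exact ⟨a, ha⟩
    obtain ⟨a, ha⟩ := hrep F₁ hF₁ le_rfl
    refine hv.2 ((Submodule.mem_span_range_iff_exists_fun _).2 ⟨fun i => ⟨(a i).1, hint _ fun F hF => ?_⟩, ha⟩)
    obtain ⟨F', hF', hle₁, hle⟩ := hdir F₁ hF₁ F hF
    obtain ⟨b, hb⟩ := hrep F' hF' hle₁
    have heq : ∀ j, (⟨(b j).1, hle₁ (b j).2⟩ : F₁) = a j := by
      intro j
      have h0 := Fintype.linearIndependent_iff.1 h₁ (fun l => (⟨(b l).1, hle₁ (b l).2⟩ : F₁) - a l) (by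
        show ∑ l, ((b l : K) - (a l : K)) • Fin.init v l = 0
        simp only [sub_smul, Finset.sum_sub_distrib, ha, hb, sub_self]) j
      exact sub_eq_zero.1 h0
    rw [← heq i]
    exact hle (b i).2

/-- A derivation of a field killing a subfield with the `p`th powers but not a given element. -/
theorem exists_derivation_subfield {L : Type u} [Field L] [CharP L p] (S : Subfield L) (hS : ∀ y : L, y ^ p ∈ S)
    (f : L) (hf : f ∉ S) : ∃ D : Derivation ℤ L L, D f ≠ 0 ∧ ∀ x ∈ S, D x = 0 := by
  classical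
  have hbot : PBasisLib.Fp p S (∅ : Set L) = ⊥ := by
    rw [eq_bot_iff, PBasisLib.Fp, IntermediateField.adjoin_le_iff]
    rintro x (⟨y, rfl⟩ | hx)
    · exact IntermediateField.mem_bot.mpr ⟨⟨y ^ p, hS y⟩, rfl⟩
    · exact absurd hx (Set.notMem_empty x)
  have hfree : PBasisLib.Free p S (fun _ : PUnit.{u + 1} => f) := by
    intro a hmem
    have h2 : f ∈ PBasisLib.Fp p S (∅ : Set L) := by
      refine PBasisLib.Fp_mono p S ?_ hmem
      rintro _ ⟨b, hb, -⟩
      exact absurd (Subsingleton.elim b a) hb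
    rw [hbot, IntermediateField.mem_bot] at h2
    obtain ⟨y, hy⟩ := h2
    exact hf (hy ▸ y.2)
  rw [PBasisLib.free_iff_linearIndependent_D] at hfree
  obtain ⟨φ, hφ⟩ := Module.Projective.exists_dual_ne_zero L (hfree.ne_zero PUnit.unit)
  refine ⟨Derivation.mk' (φ.toAddMonoidHom.comp (KaehlerDifferential.D S L).toLinearMap.toAddMonoidHom).toIntLinearMap
    (fun a b => ?_), hφ, fun x hx => ?_⟩
  · show φ (KaehlerDifferential.D S L (a * b)) = _
    rw [Derivation.leibniz, map_add, map_smul, map_smul]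
    rfl
  · show φ (KaehlerDifferential.D S L x) = 0
    rw [show x = algebraMap S L ⟨x, hx⟩ from rfl, Derivation.map_algebraMap, map_zero]

/-- A finite extension of the fractions of a ring with cofinite subrings. -/
theorem exists_subfield {C L : Type u} [CommRing C] [IsDomain C] [CharP C p] [Field L] [CharP L p]
    (hC : Cofin p C) (φ : C →+* L) (hφ : Function.Injective φ)
    [Module.Finite (Subfield.closure (Set.range φ)) L] (f : L) (hf : ∀ x : L, x ^ p ≠ f) :
    ∃ (S : Subfield L) (G : Finset C) (A : Subring C), (∀ y : L, y ^ p ∈ S) ∧ f ∉ S ∧ (∀ a ∈ A, φ a ∈ S) ∧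
      Subring.closure ((A : Set C) ∪ G) = ⊤ := by
  classical
  obtain ⟨𝔄, hne, hdir, hA, hdet⟩ := hC
  set M : Subfield L := Subfield.closure (Set.range φ) with hM
  haveI : CharP M p := ((Subfield.subtype M).charP_iff (Subfield.subtype M).injective p).2 inferInstance
  have hcl : ∀ A : Subring C, ∀ x ∈ Subfield.closure (φ '' (A : Set C)),
      ∃ y ∈ A, ∃ z ∈ A, x = φ y / φ z := by
    intro A x hx
    rw [Subfield.mem_closure_iff] at hx
    obtain ⟨y, hy, z, hz, rfl⟩ := hx
    rw [← RingHom.map_closure, Subring.closure_eq] at hy hz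
    obtain ⟨y, hy, rfl⟩ := hy
    obtain ⟨z, hz, rfl⟩ := hz
    exact ⟨y, hy, z, hz, rfl⟩
  let F : Subring C → Subfield M := fun A => (Subfield.closure (φ '' (A : Set C))).comap M.subtype
  have hFmono : ∀ {A A' : Subring C}, A ≤ A' → F A ≤ F A' := fun h x hx =>
    (Subfield.closure_mono (Set.image_mono h) : _) hx
  have hdiv : ∀ x : M, ∃ a b : C, (x : L) = φ a / φ b := fun x => by
    obtain ⟨y, hy, z, hz, hx⟩ := Subfield.mem_closure_iff.1
      (show (x : L) ∈ Subfield.closure (Set.range φ) from x.2)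
    rw [show Set.range φ = (φ.range : Set L) from rfl, Subring.closure_eq] at hy hz
    obtain ⟨a, rfl⟩ := hy
    obtain ⟨b, rfl⟩ := hz
    exact ⟨a, b, hx.symm⟩
  let K₀ : Subfield M := (frobenius M p).fieldRange
  have hint : ∀ x : M, (∀ G ∈ F '' 𝔄, x ∈ G) → x ∈ K₀ := by
    intro x hx
    obtain ⟨a, b, hab⟩ := hdiv x
    by_cases hb : b = 0
    · rw [hb, map_zero, div_zero] at hab
      exact ⟨0, by rw [map_zero]; exact Subtype.ext hab.symm⟩
    have hb' : φ b ≠ 0 := (map_ne_zero_iff φ hφ).2 hb
    obtain ⟨q, hq⟩ : ∃ q, p = q + 1 := ⟨p - 1, by have := hp.out.pos; omega⟩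
    by_cases hpw : ∀ r, r ^ p ≠ a * b ^ q
    · obtain ⟨A, hAm, hsat⟩ := hdet _ hpw
      exfalso
      obtain ⟨y, hy, z, hz, hxyz⟩ := hcl A _ (hx (F A) ⟨A, hAm, rfl⟩)
      by_cases hz0 : z = 0
      · rw [hz0, map_zero, div_zero] at hxyz
        have : a = 0 := (map_eq_zero_iff φ hφ).1 (by
          rcases div_eq_zero_iff.1 (hab.symm.trans hxyz) with h | h
          · exact h
          · exact absurd h hb')
        exact hsat (by rw [this, zero_mul]; exact Subring.zero_mem _)
      refine hsat ⟨z, hz, hz0, ?_⟩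
      have hz' : φ z ≠ 0 := (map_ne_zero_iff φ hφ).2 hz0
      have : a * b ^ q * z = y * b ^ p := hφ (by
        have h1 : φ a / φ b = φ y / φ z := hab.symm.trans hxyz
        rw [div_eq_div_iff hb' hz'] at h1
        rw [map_mul, map_mul, map_mul, map_pow, map_pow, hq, pow_succ]
        linear_combination (φ b) ^ q * h1)
      rw [this]
      exact A.mul_mem hy ((hA A hAm).1 b)
    · push_neg at hpw
      obtain ⟨r, hr⟩ := hpw
      refine ⟨⟨φ r / φ b, div_mem (Subfield.subset_closure ⟨r, rfl⟩) (Subfield.subset_closure ⟨b, rfl⟩)⟩,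
        Subtype.ext ?_⟩
      show (φ r / φ b) ^ p = (x : L)
      rw [div_pow, ← map_pow, ← map_pow, hr, hab, map_mul, map_pow, map_pow, hq, pow_succ]
      field_simp
  obtain ⟨n, e⟩ : ∃ n, Nonempty (Module.Basis (Fin n) M L) := ⟨_, ⟨Module.finBasis M L⟩⟩
  obtain ⟨e⟩ := e
  let v : Fin (n + 1) → L := Fin.snoc (fun i => e i ^ p) f
  haveI : ExpChar L p := .prime hp.out
  have hv : LinearIndependent K₀ v := by
    rw [Fintype.linearIndependent_iff]
    intro g hg
    choose c hc using fun i => (g i).2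
    have hc' : ∀ i, ((g i : M) : L) = (c i : L) ^ p := fun i => (congrArg Subtype.val (hc i)).symm
    rw [Fin.sum_univ_castSucc] at hg
    simp only [v, Fin.snoc_castSucc, Fin.snoc_last, Subfield.smul_def, smul_eq_mul, hc', ← mul_pow] at hg
    rw [← sum_pow_char] at hg
    by_cases hlast : (c (Fin.last n) : L) = 0
    · have h0 : ∑ i : Fin n, c i.castSucc • e i = 0 := by
        rw [hlast, zero_pow hp.out.ne_zero, zero_mul, add_zero] at hg
        exact eq_zero_of_pow_eq_zero hg
      have h1 := Fintype.linearIndependent_iff.1 e.linearIndependent _ h0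
      intro i
      refine Subtype.ext (Subtype.ext ?_)
      show ((g i : M) : L) = 0
      rw [hc']
      refine Fin.lastCases ?_ (fun j => ?_) i
      · rw [hlast, zero_pow hp.out.ne_zero]
      · rw [h1 j]; exact zero_pow hp.out.ne_zero
    · refine absurd ?_ (hf (-(∑ i : Fin n, (c i.castSucc : L) * e i) / (c (Fin.last n) : L)))
      rw [div_pow, neg_eq_neg_one_mul, mul_pow, neg_one_pow_char L p, neg_one_mul, ← eq_neg_iff_add_eq_zero.2 (by
        rw [add_comm]; exact hg), mul_comm, mul_div_assoc, div_self (pow_ne_zero _ hlast), mul_one]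
  obtain ⟨_, ⟨A, hAm, rfl⟩, hF⟩ := exists_linearIndependent (F '' 𝔄) (hne.image F) (by
    rintro _ ⟨A, hAm, rfl⟩ _ ⟨B, hBm, rfl⟩
    obtain ⟨D, hD, h1, h2⟩ := hdir A hAm B hBm
    exact ⟨F D, ⟨D, hD, rfl⟩, hFmono h1, hFmono h2⟩) K₀ hint v hv
  have hpowF : ∀ m : M, m ^ p ∈ F A := by
    intro m
    obtain ⟨a, b, hab⟩ := hdiv m
    show ((m ^ p : M) : L) ∈ Subfield.closure (φ '' (A : Set C))
    rw [SubmonoidClass.coe_pow, hab, div_pow, ← map_pow, ← map_pow]
    exact div_mem (Subfield.subset_closure ⟨_, (hA A hAm).1 a, rfl⟩) (Subfield.subset_closure ⟨_, (hA A hAm).1 b, rfl⟩)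
  let V : Submodule (F A) L := Submodule.span (F A) (Set.range fun i => e i ^ p)
  have hpowV : ∀ y : L, y ^ p ∈ V := by
    intro y
    rw [← e.sum_repr y, sum_pow_char]
    refine V.sum_mem fun i _ => ?_
    rw [Algebra.smul_def, mul_pow, ← map_pow, ← Algebra.smul_def]
    exact V.smul_mem (⟨_, hpowF _⟩ : F A) (Submodule.subset_span ⟨i, rfl⟩)
  have hmulV : ∀ x ∈ V, ∀ y ∈ V, x * y ∈ V := by
    intro x hx
    induction hx using Submodule.span_induction with
    | mem z hz =>
      obtain ⟨i, rfl⟩ := hz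
      intro y hy
      induction hy using Submodule.span_induction with
      | mem z hz =>
        obtain ⟨j, rfl⟩ := hz
        rw [← mul_pow]
        exact hpowV _
      | zero => rw [mul_zero]; exact V.zero_mem
      | add a b _ _ ha hb => rw [mul_add]; exact V.add_mem ha hb
      | smul a b _ hb => rw [mul_smul_comm]; exact V.smul_mem a hb
    | zero => intro y _; rw [zero_mul]; exact V.zero_mem
    | add a b _ _ ha hb => intro y hy; rw [add_mul]; exact V.add_mem (ha y hy) (hb y hy)
    | smul a b _ hb => intro y hy; rw [smul_mul_assoc]; exact V.smul_mem a (hb y hy)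
  have hone : (1 : L) ∈ V := one_pow (M := L) p ▸ hpowV 1
  let S₀ : Subring L :=
    { carrier := V
      one_mem' := hone
      zero_mem' := V.zero_mem
      add_mem' := V.add_mem
      neg_mem' := V.neg_mem
      mul_mem' := fun hx hy => hmulV _ hx _ hy }
  let S : Subfield L := { S₀ with
    inv_mem' := fun x hx => by
      rcases eq_or_ne x 0 with rfl | hx0
      · rw [inv_zero]; exact V.zero_mem
      obtain ⟨q, hq⟩ : ∃ q, p = q + 1 := ⟨p - 1, by have := hp.out.pos; omega⟩
      rw [show x⁻¹ = x⁻¹ ^ p * x ^ q by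
        rw [inv_pow, hq, pow_succ, mul_inv]
        field_simp]
      exact hmulV _ (hpowV _) _ (S₀.pow_mem hx _) }
  refine ⟨S, (hA A hAm).2.choose, A, hpowV, fun hmem => ?_, fun a ha => ?_, (hA A hAm).2.choose_spec⟩
  · have := linearIndependent_finSnoc.1 hF
    exact this.2 hmem
  · have hb : (⟨φ a, Subfield.subset_closure ⟨a, rfl⟩⟩ : M) ∈ F A := Subfield.subset_closure ⟨a, ha, rfl⟩
    have := V.smul_mem (⟨_, hb⟩ : F A) hone
    rwa [Subfield.smul_def, Subfield.smul_def, smul_eq_mul, mul_one] at this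

/-- Algebras of finite type over a ring with cofinite subrings. -/
theorem exists_derivation_of_cofin {C B : Type u} [CommRing C] [IsDomain C] [CharP C p] [CommRing B] [IsDomain B]
    [CharP B p] [Algebra C B] [Algebra.FiniteType C B] (hinj : Function.Injective (algebraMap C B))
    (hC : Cofin p C) (f : B) (hf : ∀ x : FractionRing B, x ^ p ≠ algebraMap B (FractionRing B) f) :
    ∃ D : Derivation ℤ B B, D f ≠ 0 := by
  classical
  haveI : FaithfulSMul C B := (faithfulSMul_iff_algebraMap_injective C B).2 hinj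
  obtain ⟨t, ht⟩ := (Algebra.FiniteType.out : (⊤ : Subalgebra C B).FG)
  haveI : Algebra.IsAlgebraic (Algebra.adjoin C (t : Set B)) B := ⟨fun b => by
    exact isAlgebraic_algebraMap (R := Algebra.adjoin C (t : Set B)) (⟨b, ht.symm ▸ Algebra.mem_top⟩)⟩
  obtain ⟨s, hst, hs⟩ := exists_isTranscendenceBasis_subset (R := C) (t : Set B)
  haveI : Finite s := (t.finite_toSet.subset hst).to_subtype
  obtain ⟨d, ⟨ei⟩⟩ := Finite.exists_equiv_fin s
  let ψ : MvPolynomial (Fin d) C →ₐ[C] B := MvPolynomial.aeval fun i => (ei.symm i : B)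
  have hψ : Function.Injective ψ := hs.1.comp ei.symm ei.symm.injective
  haveI : CharP (FractionRing B) p := charP_of_injective_algebraMap (IsFractionRing.injective B (FractionRing B)) p
  let j := algebraMap B (FractionRing B)
  let φ : MvPolynomial (Fin d) C →+* FractionRing B := j.comp ψ.toRingHom
  have hφ : Function.Injective φ := (IsFractionRing.injective B (FractionRing B)).comp hψ
  set M : Subfield (FractionRing B) := Subfield.closure (Set.range φ) with hMdef
  have halg : ∀ b : B, IsAlgebraic M (j b) := by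
    intro b
    haveI := hs.isAlgebraic
    obtain ⟨P, hP0, hP⟩ := Algebra.IsAlgebraic.isAlgebraic (R := Algebra.adjoin C (Set.range (Subtype.val : s → B))) b
    have hrange : ∀ x : Algebra.adjoin C (Set.range (Subtype.val : s → B)), j x ∈ M := by
      rintro ⟨x, hx⟩
      have hle : Algebra.adjoin C (Set.range (Subtype.val : s → B)) ≤ ψ.range := by
        refine Algebra.adjoin_le ?_
        rintro _ ⟨i, rfl⟩
        exact ⟨MvPolynomial.X (ei i), by simp [ψ]⟩
      obtain ⟨q, rfl⟩ := hle hx
      exact Subfield.subset_closure ⟨q, rfl⟩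
    let θ : Algebra.adjoin C (Set.range (Subtype.val : s → B)) →+* M :=
      (j.comp (Subalgebra.val _).toRingHom).codRestrict M hrange
    have hθ : Function.Injective θ := fun x y h =>
      Subtype.ext (IsFractionRing.injective B (FractionRing B) (congrArg Subtype.val h :))
    refine ⟨P.map θ, (Polynomial.map_ne_zero_iff hθ).2 hP0, ?_⟩
    rw [Polynomial.aeval_def, Polynomial.eval₂_map]
    have := congrArg j hP
    rwa [map_zero, Polynomial.aeval_def, Polynomial.hom_eval₂] at this
  haveI : Module.Finite M (FractionRing B) := by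
    let E := IntermediateField.adjoin M (j '' (t : Set B))
    haveI : FiniteDimensional M E := by
      haveI : Finite (j '' (t : Set B)) := (t.finite_toSet.image j).to_subtype
      exact IntermediateField.finiteDimensional_adjoin fun x hx => by
        obtain ⟨b, -, rfl⟩ := hx
        exact (halg b).isIntegral
    have hB : ∀ b : B, j b ∈ E := by
      intro b
      have hb : b ∈ Algebra.adjoin C (t : Set B) := ht.symm ▸ Algebra.mem_top
      induction hb using Algebra.adjoin_induction with
      | mem x hx => exact IntermediateField.subset_adjoin M _ ⟨x, hx, rfl⟩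
      | algebraMap r =>
        refine E.algebraMap_mem (⟨j (algebraMap C B r), Subfield.subset_closure ⟨MvPolynomial.C r, ?_⟩⟩ : M)
        simp [φ, ψ]
      | add x y _ _ hx hy => rw [map_add]; exact E.add_mem hx hy
      | mul x y _ _ hx hy => rw [map_mul]; exact E.mul_mem hx hy
    have htop : E = ⊤ := eq_top_iff.2 fun x _ => by
      obtain ⟨a, b, -, rfl⟩ := IsFractionRing.div_surjective B x
      exact E.div_mem (hB a) (hB b)
    exact Module.Finite.equiv ((IntermediateField.equivOfEq htop).trans IntermediateField.topEquiv).toLinearEquiv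
  obtain ⟨S, G, A, hpow, hfS, hAS, hG⟩ := exists_subfield p (cofin_mvPolynomial p hC d) φ hφ (j f) hf
  obtain ⟨D, hD, hDS⟩ := exists_derivation_subfield p S hpow (j f) hfS
  obtain ⟨⟨w, hw⟩, hden⟩ := IsLocalization.exist_integer_multiples (nonZeroDivisors B) (t ∪ G.image ψ)
    (fun b => D (j b))
  let U : Subring B :=
    { carrier := {b | ∃ c, j w * D (j b) = j c}
      one_mem' := ⟨0, by rw [map_one, Derivation.map_one_eq_zero, mul_zero, map_zero]⟩
      zero_mem' := ⟨0, by rw [map_zero, map_zero, mul_zero]⟩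
      add_mem' := by
        rintro x y ⟨a, ha⟩ ⟨b, hb⟩
        exact ⟨a + b, by rw [map_add, map_add, mul_add, ha, hb, map_add]⟩
      neg_mem' := by
        rintro x ⟨a, ha⟩
        exact ⟨-a, by rw [map_neg, map_neg, mul_neg, ha, map_neg]⟩
      mul_mem' := by
        rintro x y ⟨a, ha⟩ ⟨b, hb⟩
        exact ⟨x * b + y * a, by
          rw [map_mul j, Derivation.leibniz, map_add j, map_mul j, map_mul j, ← ha, ← hb, smul_eq_mul, smul_eq_mul]
          ring⟩ }
  have hden' : ∀ b ∈ t ∪ G.image ψ, b ∈ U := fun b hb => by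
    obtain ⟨c, hc⟩ := hden b hb
    exact ⟨c, by rw [hc, Algebra.smul_def]⟩
  have hψU : ∀ q, ψ q ∈ U := fun q => by
    refine (Subring.closure_le (t := U.comap ψ.toRingHom)).2 ?_ (hG ▸ Subring.mem_top q)
    rintro x (hx | hx)
    · exact ⟨0, by
        show j w * D (j (ψ x)) = j 0
        rw [show D (j (ψ x)) = 0 from hDS _ (hAS x hx), mul_zero, map_zero]⟩
    · exact hden' _ (Finset.mem_union_right _ (Finset.mem_image_of_mem _ hx))
  have hU : ∀ b : B, b ∈ U := by
    intro b
    have hb : b ∈ Algebra.adjoin C (t : Set B) := ht.symm ▸ Algebra.mem_top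
    induction hb using Algebra.adjoin_induction with
    | mem x hx => exact hden' x (Finset.mem_union_left _ hx)
    | algebraMap r => exact (ψ.commutes r) ▸ hψU _
    | add x y _ _ hx hy => exact U.add_mem hx hy
    | mul x y _ _ hx hy => exact U.mul_mem hx hy
  choose Dw hDw using hU
  have hjinj : Function.Injective j := IsFractionRing.injective B (FractionRing B)
  let D₁ : B →+ B := AddMonoidHom.mk' Dw fun x y => hjinj (by
    rw [map_add, ← hDw, ← hDw, ← hDw, map_add j, map_add D, mul_add])
  refine ⟨Derivation.mk' D₁.toIntLinearMap fun x y => hjinj ?_, fun h => hD ?_⟩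
  · show j (Dw (x * y)) = j (x • Dw y + y • Dw x)
    rw [← hDw, smul_eq_mul, smul_eq_mul, map_add j, map_mul j, map_mul j, map_mul j, ← hDw, ← hDw,
      Derivation.leibniz, smul_eq_mul, smul_eq_mul]
    ring
  · change Dw f = 0 at h
    have := hDw f
    rw [h, map_zero] at this
    exact (mul_eq_zero.1 this).resolve_left ((map_ne_zero_iff j hjinj).2 (nonZeroDivisors.ne_zero hw))

/-- The theorem over a complete local ring. -/
theorem exists_derivation {R B : Type u} [CommRing R] [IsLocalRing R] [IsNoetherianRing R]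
    [IsAdicComplete (maximalIdeal R) R] [CommRing B] [IsDomain B] [Algebra R B] [Algebra.FiniteType R B]
    [CharP B p] (f : B) (hf : ∀ x : FractionRing B, x ^ p ≠ algebraMap B (FractionRing B) f) :
    ∃ D : Derivation ℤ B B, D f ≠ 0 := by
  let I := RingHom.ker (algebraMap R B)
  haveI : I.IsPrime := RingHom.ker_isPrime _
  haveI : Nontrivial (R ⧸ I) := Ideal.Quotient.nontrivial_iff.mpr ‹I.IsPrime›.ne_top
  haveI : IsLocalRing (R ⧸ I) := .of_surjective' (Ideal.Quotient.mk I) Ideal.Quotient.mk_surjective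
  haveI : IsAdicComplete (maximalIdeal (R ⧸ I)) (R ⧸ I) := CplFib6.isAdicComplete_quot I
  obtain ⟨Λ, _, n, g, hΛ, hg, hgfin, -⟩ := CohenLib.exists_finite_injective (R ⧸ I)
  let φ : MvPowerSeries (Fin n) Λ →+* B := (RingHom.kerLift (algebraMap R B)).comp g
  have hφ : Function.Injective φ := (RingHom.kerLift_injective _).comp hg
  haveI : CharP (MvPowerSeries (Fin n) Λ) p := (φ.charP_iff hφ p).2 inferInstance
  haveI : CharP Λ p :=
    ((MvPowerSeries.C (σ := Fin n) (R := Λ)).charP_iff MvPowerSeries.C_injective p).2 inferInstance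
  have hF : IsField Λ := by
    refine hΛ.resolve_right fun hC => ?_
    obtain ⟨_, _, -, q, hq, hm⟩ := hC
    have hqp : (q : Λ) ≠ 0 := fun h0 => IsDiscreteValuationRing.not_a_field Λ (by rw [hm, h0]; simp)
    have hco : IsCoprime (q : ℤ) (p : ℤ) := Nat.isCoprime_iff_coprime.mpr ((Nat.coprime_primes hq hp.out).mpr
      fun h => hqp (by rw [h]; exact CharP.cast_eq_zero Λ p))
    obtain ⟨a, b, hab⟩ := hco
    have h2 := congrArg (Int.cast : ℤ → Λ) hab
    push_cast at h2
    rw [CharP.cast_eq_zero Λ p, mul_zero, add_zero] at h2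
    exact (maximalIdeal.isMaximal Λ).ne_top ((Ideal.eq_top_iff_one _).mpr
      (h2 ▸ Ideal.mul_mem_left _ _ (hm ▸ Ideal.subset_span rfl)))
  letI := hF.toField
  letI : Algebra (MvPowerSeries (Fin n) Λ) B := φ.toAlgebra
  haveI : Algebra.FiniteType (MvPowerSeries (Fin n) Λ) B := by
    show φ.FiniteType
    refine RingHom.FiniteType.comp ?_ hgfin.finiteType
    refine RingHom.FiniteType.of_comp_finiteType (f := Ideal.Quotient.mk I) ?_
    show (RingHom.FiniteType ((RingHom.kerLift (algebraMap R B)).comp (Ideal.Quotient.mk I)))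
    exact (RingHom.finiteType_algebraMap).2 ‹Algebra.FiniteType R B›
  exact exists_derivation_of_cofin p hφ (cofin_mvPowerSeries p Λ n) f hf

end Groth.Agent.DerPth
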